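import Groth.Agent.Lib.HopfFF23.Basic
import Mathlib.RingTheory.HopfAlgebra.Quotient

/-!
# Kernels and images of bialgebra maps of Hopf algebras over a field
-/

set_option linter.style.haveILetI false

open TensorProduct Coalgebra HopfAlgebra WithConv

namespace Groth.Agent.HopfFF23

universe u v w

/-- Bialgebra maps commute with the antipode. -/
theorem map_antipode {R : Type u} [CommRing R] {C : Type v} {B : Type w} [CommRing C]
    [HopfAlgebra R C] [CommRing B] [HopfAlgebra R B] (φ : C →ₐc[R] B) (c : C) :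
    φ (antipode R c) = antipode R (φ c) := by
  have h1 : toConv ((φ : C →ₗ[R] B) ∘ₗ antipode R) * toConv (φ : C →ₗ[R] B) = 1 := by
    apply ofConv_injective
    have := congrArg (fun z : WithConv (C →ₗ[R] C) => (AlgHomClass.toAlgHom φ).toLinearMap ∘ₗ z.ofConv)
      (LinearMap.antipode_mul_id (R := R) (C := C))
    simp only [LinearMap.algHom_comp_convMul_distrib, LinearMap.algHom_comp_convOne] at this
    exact this
  have h2 : toConv (φ : C →ₗ[R] B) * toConv (antipode R ∘ₗ (φ : C →ₗ[R] B)) = 1 := by
    apply ofConv_injective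
    have := congrArg (fun z : WithConv (B →ₗ[R] B) => z.ofConv ∘ₗ φ.toCoalgHom.toLinearMap)
      (LinearMap.id_mul_antipode (R := R) (C := B))
    simp only [LinearMap.convMul_comp_coalgHom_distrib, LinearMap.convOne_comp_coalgHom] at this
    exact this
  have h3 := left_inv_eq_right_inv h1 h2
  exact LinearMap.congr_fun (congrArg WithConv.ofConv h3) c

/-- The kernel of a bialgebra map of Hopf algebras over a field is a Hopf ideal. -/
theorem isHopfIdeal_ker {k : Type u} [Field k] {C : Type v} {B : Type w} [CommRing C]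
    [HopfAlgebra k C] [CommRing B] [HopfAlgebra k B] (φ : C →ₐc[k] B) :
    (RingHom.ker (φ : C →ₐ[k] B)).IsHopfIdeal k := by
  refine { counit_eq_zero := ?_, map_mkQ_comul_eq_zero := ?_, antipode_mem := ?_ }
  · intro x hx
    have hx' : φ x = 0 := hx
    exact (CoalgHomClass.counit_comp_apply φ x).symm.trans (by rw [hx', map_zero])
  · intro x hx
    have hx' : φ x = 0 := hx
    let J := (RingHom.ker (φ : C →ₐ[k] B)).restrictScalars k
    let ι : (C ⧸ J) →ₗ[k] B := J.liftQ (φ : C →ₗ[k] B) fun y hy => hy
    have hι : Function.Injective ι := by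
      rw [← LinearMap.ker_eq_bot, LinearMap.ker_eq_bot']
      intro z hz
      obtain ⟨y, rfl⟩ := J.mkQ_surjective z
      exact (Submodule.Quotient.mk_eq_zero J).2 hz
    refine TensorProduct.map_injective_of_flat_flat ι ι hι hι ?_
    rw [map_zero, ← LinearMap.comp_apply, ← TensorProduct.map_comp]
    show TensorProduct.map (φ : C →ₗ[k] B) (φ : C →ₗ[k] B) (comul (R := k) x) = 0
    rw [CoalgHomClass.map_comp_comul_apply, hx', map_zero]
  · intro x hx
    have hx' : φ x = 0 := hx
    show φ (antipode k x) = 0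
    rw [map_antipode, hx', map_zero]

/-- Faithful flatness over the image of a bialgebra map. -/
theorem faithfullyFlat_range_val {k : Type u} {A : Type v} {B : Type w} [Field k] [CommRing A]
    [CommRing B] [HopfAlgebra k A] [HopfAlgebra k B] [Algebra.FiniteType k A] [Algebra.FiniteType k B]
    (f : A →ₐc[k] B) :
    ((f : A →ₐ[k] B).range.val : (f : A →ₐ[k] B).range →+* B).FaithfullyFlat := by
  let I := RingHom.ker (f : A →ₐ[k] B)
  haveI : I.IsHopfIdeal k := isHopfIdeal_ker f
  let g : (A ⧸ I) →ₐ[k] B := Ideal.Quotient.liftₐ I (f : A →ₐ[k] B) fun a ha => ha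
  have hg : ∀ a, g (Ideal.Quotient.mk I a) = f a := fun a => rfl
  have hc1 : (Bialgebra.counitAlgHom k B).comp g = Bialgebra.counitAlgHom k (A ⧸ I) :=
    Ideal.Quotient.algHom_ext k (AlgHom.ext fun a => CoalgHomClass.counit_comp_apply f a)
  have hc2 : (Algebra.TensorProduct.map g g).comp (Bialgebra.comulAlgHom k (A ⧸ I)) =
      (Bialgebra.comulAlgHom k B).comp g := by
    refine Ideal.Quotient.algHom_ext k (AlgHom.ext fun a => ?_)
    show Algebra.TensorProduct.map g g (comul (R := k) (Ideal.Quotient.mk I a)) = comul (R := k) (f a)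
    rw [← CoalgHomClass.map_comp_comul_apply f a,
      show (Ideal.Quotient.mk I a) = (Bialgebra.Quotient.mkBialgHom (R := k) I) a from rfl,
      ← CoalgHomClass.map_comp_comul_apply]
    induction comul (R := k) a with
    | zero => simp
    | add x y hx hy => simp only [map_add, hx, hy]
    | tmul x y => rfl
  let G : (A ⧸ I) →ₐc[k] B := BialgHom.ofAlgHom g hc1 hc2
  have hG : Function.Injective G := RingHom.lift_injective_of_ker_le_ideal I (fun a ha => ha) le_rfl
  haveI : Algebra.FiniteType k (A ⧸ I) :=
    Algebra.FiniteType.of_surjective (Ideal.Quotient.mkₐ k I) (Ideal.Quotient.mkₐ_surjective k I)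
  have hff := faithfullyFlat_of_injective G hG
  let e : (f : A →ₐ[k] B).range →+* A ⧸ I :=
    (Ideal.quotientKerEquivRange (f : A →ₐ[k] B)).symm.toAlgHom.toRingHom
  have he : ((f : A →ₐ[k] B).range.val : (f : A →ₐ[k] B).range →+* B) = (G : A ⧸ I →+* B).comp e := by
    refine RingHom.ext fun x => ?_
    obtain ⟨y, rfl⟩ := (Ideal.quotientKerEquivRange (f : A →ₐ[k] B)).surjective x
    show _ = g ((Ideal.quotientKerEquivRange (f : A →ₐ[k] B)).symm _)
    rw [AlgEquiv.symm_apply_apply]
    obtain ⟨a, rfl⟩ := Ideal.Quotient.mk_surjective y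
    rfl
  rw [he]
  exact faithfullyFlat_comp
    (.of_bijective (Ideal.quotientKerEquivRange (f : A →ₐ[k] B)).symm.bijective) hff

theorem comp_convOne {R : Type u} [CommRing R] {C : Type v} {A : Type w} {T : Type*} [CommRing C]
    [Bialgebra R C] [CommRing A] [Algebra R A] [CommRing T] [Algebra R T] (y : A →ₐ[R] T) :
    toConv (y.comp (1 : WithConv (C →ₐ[R] A)).ofConv) = 1 :=
  ofConv_injective (AlgHom.ext fun c => y.commutes (counit c))

theorem convOne_comp {R : Type u} [CommRing R] {C : Type v} {B : Type w} {T : Type*} [CommRing C]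
    [Bialgebra R C] [CommRing B] [Bialgebra R B] [CommRing T] [Algebra R T] (f : B →ₐc[R] C) :
    (1 : WithConv (C →ₐ[R] T)).ofConv.comp (f : B →ₐ[R] C) = (1 : WithConv (B →ₐ[R] T)).ofConv :=
  AlgHom.ext fun b => congrArg (algebraMap R T) (CoalgHomClass.counit_comp_apply f b)

theorem conv_antipode_mul {R : Type u} [CommRing R] {C : Type v} [CommRing C] [HopfAlgebra R C] :
    (toConv (antipodeAlgHom R C) * toConv (AlgHom.id R C) : WithConv (C →ₐ[R] C)) = 1 := by
  refine ofConv_injective (AlgHom.ext fun c => ?_)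
  rw [show ∀ f g : WithConv (C →ₐ[R] C), (f * g).ofConv c = (f * g) c from fun _ _ => rfl,
    AlgHom.convMul_apply]
  show _ = algebraMap R C (counit c)
  rw [← mul_antipode_rTensor_comul_apply]
  induction comul (R := R) c with
  | zero => simp
  | add x y hx hy => simp only [map_add, hx, hy]
  | tmul x y => simp

end Groth.Agent.HopfFF23
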