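import Groth.Agent.Lib.HopfFlat20.AlgClosed
import Mathlib.RingTheory.Bialgebra.TensorProduct
import Mathlib.RingTheory.HopfAlgebra.TensorProduct
import Mathlib.RingTheory.Flat.FaithfullyFlat.Algebra
import Mathlib.FieldTheory.IsAlgClosed.AlgebraicClosure

/-!
# Faithful flatness over Hopf subalgebras: any field, any universes
-/

set_option linter.style.haveILetI false

open TensorProduct

namespace Groth.Agent.HopfFF23

universe u v w

/-- If `g ∘ f` is flat and `g` is faithfully flat then `f` is flat. -/
theorem flat_of_comp_faithfullyFlat {R : Type u} {S : Type v} {T : Type w} [CommRing R]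
    [CommRing S] [CommRing T] (f : R →+* S) (g : S →+* T) (hg : g.FaithfullyFlat)
    (h : (g.comp f).Flat) : f.Flat := by
  letI := f.toAlgebra
  letI := g.toAlgebra
  letI := (g.comp f).toAlgebra
  haveI : IsScalarTower R S T := IsScalarTower.of_algebraMap_eq fun _ => rfl
  haveI h0 : Module.Flat R T := h
  haveI h1 : Module.FaithfullyFlat S T := hg
  show Module.Flat R S
  rw [Module.Flat.iff_lTensor_preserves_injective_linearMap]
  intro N P _ _ _ _ a ha
  let G : S ⊗[R] N →ₗ[S] S ⊗[R] P := a.baseChange S
  suffices Function.Injective G by exact this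
  rw [← Module.FaithfullyFlat.lTensor_injective_iff_injective S T]
  let eN := TensorProduct.AlgebraTensorModule.cancelBaseChange R S S T N
  let eP := TensorProduct.AlgebraTensorModule.cancelBaseChange R S S T P
  have hcomm : ∀ z, eP (G.lTensor T z) = a.lTensor T (eN z) := by
    intro z
    induction z with
    | zero => simp
    | add x y hx hy => simp [map_add, hx, hy]
    | tmul c w =>
      induction w with
      | zero => simp
      | add x y hx hy =>
        simp only [tmul_add, map_add, hx, hy]
      | tmul b n => simp [eP, eN, G]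
  intro x y hxy
  apply eN.injective
  refine Module.Flat.lTensor_preserves_injective_linearMap (M := T) a ha ?_
  rw [← hcomm, ← hcomm, hxy]

/-- If `g ∘ f` is faithfully flat and `g` is faithfully flat then `f` is faithfully flat. -/
theorem faithfullyFlat_of_comp {R : Type u} {S : Type v} {T : Type w} [CommRing R]
    [CommRing S] [CommRing T] (f : R →+* S) (g : S →+* T) (hg : g.FaithfullyFlat)
    (h : (g.comp f).FaithfullyFlat) : f.FaithfullyFlat := by
  rw [RingHom.FaithfullyFlat.iff_flat_and_comap_surjective] at h ⊢
  refine ⟨flat_of_comp_faithfullyFlat f g hg h.1, fun P => ?_⟩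
  obtain ⟨Q, hQ⟩ := h.2 P
  exact ⟨PrimeSpectrum.comap g Q, by rw [← hQ, PrimeSpectrum.comap_comp]; rfl⟩

/-- Faithful flatness is stable under composition, any universes. -/
theorem faithfullyFlat_comp {R : Type u} {S : Type v} {T : Type w} [CommRing R]
    [CommRing S] [CommRing T] {f : R →+* S} {g : S →+* T} (hf : f.FaithfullyFlat)
    (hg : g.FaithfullyFlat) : (g.comp f).FaithfullyFlat := by
  rw [RingHom.FaithfullyFlat.iff_flat_and_comap_surjective] at hf hg ⊢
  refine ⟨hf.1.comp hg.1, ?_⟩
  rw [PrimeSpectrum.comap_comp]
  exact hf.2.comp hg.2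

/-- A commutative Hopf algebra of finite type over a field is faithfully flat over a Hopf
subalgebra of finite type (any field). -/
theorem faithfullyFlat_of_injective {k : Type u} {A : Type v} {B : Type w} [Field k] [CommRing A]
    [CommRing B] [HopfAlgebra k A] [HopfAlgebra k B] [Algebra.FiniteType k A] [Algebra.FiniteType k B]
    (f : A →ₐc[k] B) (hf : Function.Injective f) : (f : A →+* B).FaithfullyFlat := by
  let K : Type (max u v w) := AlgebraicClosure (ULift.{max v w} k)
  letI : Field K := inferInstanceAs (Field (AlgebraicClosure (ULift.{max v w} k)))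
  haveI : IsAlgClosed K := inferInstanceAs (IsAlgClosed (AlgebraicClosure (ULift.{max v w} k)))
  letI : Algebra k K := inferInstanceAs (Algebra k (AlgebraicClosure (ULift.{max v w} k)))
  let F : K ⊗[k] A →ₐc[K] K ⊗[k] B := Bialgebra.TensorProduct.map (BialgHom.id K K) f
  have hF : ∀ x, F x = LinearMap.lTensor K (f : A →ₐc[k] B).toLinearMap x := by
    intro x
    induction x with
    | zero => simp
    | add x y hx hy => simp only [map_add, hx, hy]
    | tmul c a => rfl
  have hFinj : Function.Injective F := by
    intro x y h
    rw [hF, hF] at h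
    exact Module.Flat.lTensor_preserves_injective_linearMap (M := K) _ hf h
  have hFff : (F : K ⊗[k] A →+* K ⊗[k] B).FaithfullyFlat :=
    HopfFlat.faithfullyFlat_of_isAlgClosed F hFinj
  let iA : A →+* K ⊗[k] A := (Algebra.TensorProduct.includeRight : A →ₐ[k] K ⊗[k] A).toRingHom
  let iB : B →+* K ⊗[k] B := (Algebra.TensorProduct.includeRight : B →ₐ[k] K ⊗[k] B).toRingHom
  have hiA : iA.FaithfullyFlat := by
    have : iA = (Algebra.TensorProduct.comm k A K).toAlgHom.toRingHom.comp
        (algebraMap A (A ⊗[k] K)) := RingHom.ext fun a => rfl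
    rw [this]
    haveI : Module.FaithfullyFlat A (A ⊗[k] K) := inferInstance
    exact faithfullyFlat_comp
      (RingHom.faithfullyFlat_algebraMap_iff.2 this)
      (.of_bijective (Algebra.TensorProduct.comm k A K).bijective)
  have hiB : iB.FaithfullyFlat := by
    have : iB = (Algebra.TensorProduct.comm k B K).toAlgHom.toRingHom.comp
        (algebraMap B (B ⊗[k] K)) := RingHom.ext fun a => rfl
    rw [this]
    haveI : Module.FaithfullyFlat B (B ⊗[k] K) := inferInstance
    exact faithfullyFlat_comp
      (RingHom.faithfullyFlat_algebraMap_iff.2 this)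
      (.of_bijective (Algebra.TensorProduct.comm k B K).bijective)
  have hcomm : iB.comp (f : A →+* B) = (F : K ⊗[k] A →+* K ⊗[k] B).comp iA :=
    RingHom.ext fun a => rfl
  refine faithfullyFlat_of_comp _ iB hiB ?_
  rw [hcomm]
  exact faithfullyFlat_comp hiA hFff

end Groth.Agent.HopfFF23
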